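/-
The checks for the data of the solvable maximal subgroup of Fi23.
-/
import Cfsg.Agent.H92.FiH.Data

set_option autoImplicit false
set_option maxRecDepth 100000

namespace H92.FiH

open H93 H93.Coset H92.FiT H92.FiM

/-- The entry of the tree at a node. -/
noncomputable def tv (x : ℕ) : ℕ :=
  Nat.land (Nat.shiftRight (treeData.getD (x / 256) 0) (16 * (x % 256))) 65535

/-- The root with the given code. -/
def rootOf (r : ℕ) : ℕ := bif Nat.beq r 1 then 14 else 2

/-- A node outside the set has a smaller neighbour with the same root. -/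
noncomputable def treeNode (x : ℕ) : Bool :=
  Nat.testBit sMask x || force (tv x) fun v =>
    bif Nat.beq (v / 32) 0 then Nat.beq x (rootOf (v % 2))
    else Nat.blt (v / 2 % 16) treeWords.length &&
      walk Fi23Table.data.T (treeWords.getD (v / 2 % 16) []) x fun q =>
        Nat.blt q 31671 && !Nat.testBit sMask q && force (tv q) fun v' =>
          Nat.blt (v' / 32) (v / 32) && Nat.beq (v' % 2) (v % 2)

/-- Nodes with the pattern of a class lie in its list. -/
noncomputable def scanNode (x : ℕ) : Bool :=
  classes.all fun c =>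
    !(letters.all fun g => Nat.beq (Fi23Table.data.T g x) x == Nat.beq (Fi23Table.data.T g c.1) c.1) ||
      c.2.any (Nat.beq x)

/-- A derivation node. -/
def dnode (k : ℕ) : ℕ × ℕ × ℕ × ℕ × List ℕ := derivedNodes.getD k (0, 0, 0, 0, [])

/-- The check of one derivation node with predecessors `a` and `b`. -/
noncomputable def nodeOK : ℕ → ℕ × ℕ × ℕ × ℕ × List ℕ → Bool
  | k, (l, c, i, j, w) => lettersOK w &&
      match c with
        | 0 => Nat.beq l 0 && Nat.blt i hWords.length && decide (w = hWords.getD i [])
        | 1 => Nat.blt i k && Nat.blt j k && Nat.beq (dnode (k - 1 - i)).1 l &&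
            Nat.beq (dnode (k - 1 - j)).1 l &&
            eqv w ((dnode (k - 1 - i)).2.2.2.2 ++ (dnode (k - 1 - j)).2.2.2.2)
        | 2 => Nat.blt i k && Nat.blt j k && Nat.beq (dnode (k - 1 - i)).1 0 &&
            Nat.beq (dnode (k - 1 - j)).1 l &&
            eqv w ((dnode (k - 1 - i)).2.2.2.2.reverse ++ (dnode (k - 1 - j)).2.2.2.2 ++
              (dnode (k - 1 - i)).2.2.2.2)
        | _ => Nat.blt i k && Nat.blt j k && Nat.beq (dnode (k - 1 - i)).1 (dnode (k - 1 - j)).1 &&
            Nat.beq l ((dnode (k - 1 - i)).1 + 1) &&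
            eqv w ((dnode (k - 1 - j)).2.2.2.2.reverse ++ (dnode (k - 1 - i)).2.2.2.2.reverse ++
              (dnode (k - 1 - j)).2.2.2.2 ++ (dnode (k - 1 - i)).2.2.2.2)

/-- The check of one derivation node. -/
noncomputable def derivedAt (k : ℕ) : Bool := nodeOK k (dnode k)

end H92.FiH
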