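/-
Kernel checks.
-/
import Cfsg.Agent.H92.FiH.Predicates

set_option autoImplicit false
set_option maxRecDepth 100000
set_option linter.all false
set_option Elab.async false

namespace H92.FiH

open H93 H93.Coset H92.FiT H92.FiM

theorem mask_ok : sMask = maskOf nodes := by decide +kernel

theorem nodes_ok : (nodes.all fun s => Nat.blt s 31671) = true := by decide +kernel

theorem nodes_nodup : nodes.Nodup := by decide +kernel

theorem h_ok : (hWords.all (inH nodes sMask)) = true := by decide +kernel

theorem tree_words : (treeWords.all fun w => hWords.any fun v => decide (v = w)) = true := by decide +kernel

theorem letters_ok : (letters.all fun g => hWords.any fun v => decide (v = [g])) = true := by decide +kernel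

theorem level0_ok : level0.ok nodes sMask = true := by decide +kernel

theorem level1_ok : level1.ok nodes sMask = true := by decide +kernel

theorem level2_ok : level2.ok nodes sMask = true := by decide +kernel

theorem level3_ok : level3.ok nodes sMask = true := by decide +kernel

theorem level4_ok : level4.ok nodes sMask = true := by decide +kernel


end H92.FiH
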