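/-
Kernel checks.
-/
import Cfsg.Agent.H92.FiH.Predicates
import Cfsg.Agent.H92.FiM.Checks

set_option autoImplicit false
set_option maxRecDepth 100000
set_option linter.all false
set_option Elab.async false

namespace H92.FiH

open H93 H93.Coset H92.FiT H92.FiM

theorem term0_ok : derFrom (level4.reps.getD 0 0 :: level4.R) nodes term0 = true := by decide +kernel

theorem term1_ok : derFrom (level4.reps.getD 1 0 :: level4.R) nodes term1 = true := by decide +kernel

theorem term2_ok : derFrom (level4.reps.getD 2 0 :: level4.R) nodes term2 = true := by decide +kernel

theorem term3_ok : derFrom (level4.reps.getD 3 0 :: level4.R) nodes term3 = true := by decide +kernel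

theorem term4_ok : derFrom (level4.reps.getD 4 0 :: level4.R) nodes term4 = true := by decide +kernel

theorem term5_ok : derFrom (level4.reps.getD 5 0 :: level4.R) nodes term5 = true := by decide +kernel

theorem term6_ok : derFrom (level4.reps.getD 6 0 :: level4.R) nodes term6 = true := by decide +kernel

theorem term7_ok : derFrom (level4.reps.getD 7 0 :: level4.R) nodes term7 = true := by decide +kernel

theorem outA_ok : derFrom (nodes ++ classes.map Prod.fst) genPts outA = true := by decide +kernel

theorem outB_ok : derFrom (nodes ++ [14]) genPts outB = true := by decide +kernel


end H92.FiH
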