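/-
Kernel checks.
-/
import Cfsg.Agent.H92.FiH.Predicates

set_option autoImplicit false
set_option maxRecDepth 100000
set_option linter.all false
set_option Elab.async false

namespace H92.FiH

open H93 H93.Coset H92.FiT H92.FiM

theorem treeNode_0 : allRange 0 2000 treeNode = true := by decide +kernel

theorem treeNode_1 : allRange 2000 2000 treeNode = true := by decide +kernel

theorem treeNode_2 : allRange 4000 2000 treeNode = true := by decide +kernel

theorem treeNode_3 : allRange 6000 2000 treeNode = true := by decide +kernel

theorem treeNode_4 : allRange 8000 2000 treeNode = true := by decide +kernel

theorem treeNode_5 : allRange 10000 2000 treeNode = true := by decide +kernel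

theorem treeNode_6 : allRange 12000 2000 treeNode = true := by decide +kernel

theorem treeNode_7 : allRange 14000 2000 treeNode = true := by decide +kernel

theorem treeNode_8 : allRange 16000 2000 treeNode = true := by decide +kernel

theorem treeNode_9 : allRange 18000 2000 treeNode = true := by decide +kernel

theorem treeNode_10 : allRange 20000 2000 treeNode = true := by decide +kernel

theorem treeNode_11 : allRange 22000 2000 treeNode = true := by decide +kernel

theorem treeNode_12 : allRange 24000 2000 treeNode = true := by decide +kernel

theorem treeNode_13 : allRange 26000 2000 treeNode = true := by decide +kernel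

theorem treeNode_14 : allRange 28000 2000 treeNode = true := by decide +kernel

theorem treeNode_15 : allRange 30000 1671 treeNode = true := by decide +kernel

section
attribute [local irreducible] allRange treeNode
theorem treeNode_ok : allRange 0 31671 treeNode = true :=
  (allRange_glue (allRange_glue (allRange_glue (allRange_glue (allRange_glue (allRange_glue (allRange_glue (allRange_glue (allRange_glue (allRange_glue (allRange_glue (allRange_glue (allRange_glue (allRange_glue (allRange_glue treeNode_0 treeNode_1) treeNode_2) treeNode_3) treeNode_4) treeNode_5) treeNode_6) treeNode_7) treeNode_8) treeNode_9) treeNode_10) treeNode_11) treeNode_12) treeNode_13) treeNode_14) treeNode_15)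
end

end H92.FiH
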