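/-
Kernel checks.
-/
import Cfsg.Agent.H92.FiH.Predicates

set_option autoImplicit false
set_option maxRecDepth 100000
set_option linter.all false
set_option Elab.async false

namespace H92.FiH

open H93 H93.Coset H92.FiT H92.FiM

theorem scanNode_0 : allRange 0 2000 scanNode = true := by decide +kernel

theorem scanNode_1 : allRange 2000 2000 scanNode = true := by decide +kernel

theorem scanNode_2 : allRange 4000 2000 scanNode = true := by decide +kernel

theorem scanNode_3 : allRange 6000 2000 scanNode = true := by decide +kernel

theorem scanNode_4 : allRange 8000 2000 scanNode = true := by decide +kernel

theorem scanNode_5 : allRange 10000 2000 scanNode = true := by decide +kernel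

theorem scanNode_6 : allRange 12000 2000 scanNode = true := by decide +kernel

theorem scanNode_7 : allRange 14000 2000 scanNode = true := by decide +kernel

theorem scanNode_8 : allRange 16000 2000 scanNode = true := by decide +kernel

theorem scanNode_9 : allRange 18000 2000 scanNode = true := by decide +kernel

theorem scanNode_10 : allRange 20000 2000 scanNode = true := by decide +kernel

theorem scanNode_11 : allRange 22000 2000 scanNode = true := by decide +kernel

theorem scanNode_12 : allRange 24000 2000 scanNode = true := by decide +kernel

theorem scanNode_13 : allRange 26000 2000 scanNode = true := by decide +kernel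

theorem scanNode_14 : allRange 28000 2000 scanNode = true := by decide +kernel

theorem scanNode_15 : allRange 30000 1671 scanNode = true := by decide +kernel

section
attribute [local irreducible] allRange scanNode
theorem scanNode_ok : allRange 0 31671 scanNode = true :=
  (allRange_glue (allRange_glue (allRange_glue (allRange_glue (allRange_glue (allRange_glue (allRange_glue (allRange_glue (allRange_glue (allRange_glue (allRange_glue (allRange_glue (allRange_glue (allRange_glue (allRange_glue scanNode_0 scanNode_1) scanNode_2) scanNode_3) scanNode_4) scanNode_5) scanNode_6) scanNode_7) scanNode_8) scanNode_9) scanNode_10) scanNode_11) scanNode_12) scanNode_13) scanNode_14) scanNode_15)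
end

end H92.FiH
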