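/-
Kernel checks.
-/
import Cfsg.Agent.H92.FiH.Predicates

set_option autoImplicit false
set_option maxRecDepth 100000
set_option linter.all false
set_option Elab.async false

namespace H92.FiH

open H93 H93.Coset H92.FiT H92.FiM

theorem derived_0 : allRange 0 30 derivedAt = true := by decide +kernel

theorem derived_1 : allRange 30 30 derivedAt = true := by decide +kernel

theorem derived_2 : allRange 60 30 derivedAt = true := by decide +kernel

theorem derived_3 : allRange 90 30 derivedAt = true := by decide +kernel

theorem derived_4 : allRange 120 15 derivedAt = true := by decide +kernel

section
attribute [local irreducible] allRange derivedAt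
theorem derived_ok : allRange 0 135 derivedAt = true :=
  (allRange_glue (allRange_glue (allRange_glue (allRange_glue derived_0 derived_1) derived_2) derived_3) derived_4)
end

theorem derived_last : ((dnode 134).1 = 9) ∧
    Nat.beq (pathEnd Fi23Table.data.T (dnode 134).2.2.2.2 55) 55 = false := by decide +kernel

end H92.FiH
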