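/-
No element of prime order at least 5 stabilizes the set; the stabilizer is solvable.
-/
import Cfsg.Agent.H92.FiH.Checks1
import Cfsg.Agent.H92.FiH.Checks2
import Cfsg.Agent.H92.FiH.Checks4
import Cfsg.Agent.H33.TwoPrime

set_option autoImplicit false
set_option maxRecDepth 100000
set_option linter.style.haveILetI false

namespace H92.FiH

open H93 H93.Coset H92.FiT H92.FiM

/-- The maximal subgroup. -/
noncomputable def M : Subgroup G23 := stab nodes

theorem mem_hWords {w : List ℕ} (h : w ∈ hWords) : lettersOK w = true ∧ fev w ∈ M := by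
  have h1 := List.all_eq_true.1 h_ok w h
  refine ⟨?_, inH_spec (mask_ok ▸ h1)⟩
  simp only [inH, Bool.and_eq_true] at h1
  exact h1.1

theorem letter_mem {g : ℕ} (h : g ∈ letters) : g < 10 ∧ Fi23Order.gen g ∈ M := by
  have h1 := List.all_eq_true.1 letters_ok g h
  simp only [List.any_eq_true, decide_eq_true_eq] at h1
  obtain ⟨v, hv, rfl⟩ := h1
  obtain ⟨hl, hm⟩ := mem_hWords hv
  refine ⟨lettersOK_spec hl g (by simp), ?_⟩
  simpa [fev, ev] using hm

theorem gen_tau {g : ℕ} (hg : g < 10) :
    ∃ a : Node, (a : ℕ) = genPts.getD g 0 ∧ tau a = Fi23Order.gen g := by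
  have h := List.all_eq_true.1 gens_ok g (List.mem_range.2 hg)
  simp only [Bool.and_eq_true, walk_eq, Nat.beq_eq, Nat.blt_eq] at h
  obtain ⟨⟨⟨hl, hp⟩, he⟩, hb⟩ := h
  refine ⟨⟨genPts.getD g 0, hb⟩, rfl, ?_⟩
  rw [tau_word hl (a := ⟨genPts.getD g 0, hb⟩) hp.symm, eqv_spec he]
  simp [fev, ev]

theorem eq_one_of_fix_gens {g : G23}
    (h : ∀ a : Node, (a : ℕ) ∈ genPts → act g a = a) : g = 1 := by
  have hc : ∀ k, k < 10 → g * Fi23Order.gen k = Fi23Order.gen k * g := by
    intro k hk
    obtain ⟨a, ha, hta⟩ := gen_tau hk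
    have hmem : (a : ℕ) ∈ genPts := by
      rw [ha, List.getD_eq_getElem _ _ (by simpa [genPts] using hk)]
      exact List.getElem_mem _
    have h1 := tau_conj g a
    rw [h a hmem, hta] at h1
    exact mul_inv_eq_iff_eq_mul.1 h1
  have hall : g ∈ Subgroup.center G23 := by
    rw [Subgroup.mem_center_iff]
    intro x
    have hx : x ∈ Subgroup.closure (Fi23Order.gen '' {k | k < 10}) := by
      rw [show Subgroup.closure (Fi23Order.gen '' {k | k < 10}) = ⊤ from Fi23Table.fit.model.generates]
      exact Subgroup.mem_top x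
    refine Subgroup.closure_induction (p := fun x _ => x * g = g * x) ?_ (by simp) ?_ ?_ hx
    · rintro _ ⟨k, hk, rfl⟩
      exact (hc k hk).symm
    · intro a b _ _ ha hb
      rw [mul_assoc, hb, ← mul_assoc, ha, mul_assoc]
    · intro a _ ha
      exact (Commute.inv_left (ha : Commute a g)).eq
  rw [center_eq_bot, Subgroup.mem_bot] at hall
  exact hall
where
  center_eq_bot : Subgroup.center G23 = ⊥ := by
    haveI : IsSimpleGroup G23 := Fi23Order.isFi23.1
    haveI := Fi23Cover.finite
    refine ((inferInstance : (Subgroup.center G23).Normal).eq_bot_or_eq_top).resolve_right fun h => ?_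
    have h1 : Fi23Cover.H = ⊤ := by
      rw [← Fi23Cover.centralizer_z, eq_top_iff]
      intro x _
      rw [Subgroup.mem_centralizer_iff]
      rintro _ rfl
      exact Subgroup.mem_center_iff.1 (h ▸ Subgroup.mem_top x) _
    have h2 := Fi23Cover.card_H
    rw [h1, Subgroup.card_top, Fi23Cover.card_G] at h2
    omega

theorem noP_all {p : ℕ} [Fact p.Prime] (hp5 : 5 ≤ p) : NoP nodes p nodes := by
  intro g hg hgp hfix
  have hcomm : ∀ k ∈ letters, ∀ a : Node,
      act g (act (Fi23Order.gen k) a) = act (Fi23Order.gen k) (act g a) := by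
    intro k hk a
    obtain ⟨hk10, -⟩ := letter_mem hk
    obtain ⟨c, hc, htc⟩ := gen_tau hk10
    have hcS : (c : ℕ) ∈ nodes := by
      rw [hc]
      exact (by decide +kernel : ∀ k ∈ letters, genPts.getD k 0 ∈ nodes) k hk
    rw [← htc, act_tau, hfix c hcS]
  have hcl : ∀ c : Node, (c : ℕ) ∈ classes.map Prod.fst → act g c = c := by
    intro c hc
    obtain ⟨⟨x0, l⟩, hx, hx0⟩ := List.mem_map.1 hc
    have hx0' : x0 = (c : ℕ) := hx0
    subst hx0'
    let D : Set Node := {x | ∀ k ∈ letters,
      (act (Fi23Order.gen k) x = x ↔ act (Fi23Order.gen k) c = c)}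
    have hinv : ∀ x : Node, x ∈ D ↔ act g x ∈ D := by
      intro x
      refine forall₂_congr fun k hk => ?_
      rw [← hcomm k hk x, EmbeddingLike.apply_eq_iff_eq]
    have hsub : ∀ x : Node, x ∈ D → (x : ℕ) ∈ l := by
      intro x hxD
      have h := allRange_spec scanNode_ok (x : ℕ) (Nat.zero_le _) (x.2.trans_le (le_of_eq (Nat.zero_add 31671).symm))
      simp only [scanNode, List.all_eq_true, Bool.or_eq_true, Bool.not_eq_true', List.any_eq_true,
        Nat.beq_eq] at h
      rcases h _ hx with h | h
      · exfalso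
        rw [← Bool.not_eq_true] at h
        refine h (List.all_eq_true.2 fun k hk => ?_)
        have hk10 := (letter_mem hk).1
        have e : ∀ y : Node, (act (Fi23Order.gen k) y : ℕ) = Fi23Table.data.T k y := fun y => by
          have := act_word (w := [k]) (by simp [lettersOK, hk10]) y
          simpa [fev, ev, pathEnd] using this
        rw [beq_iff_eq, Bool.eq_iff_iff, Nat.beq_eq, Nat.beq_eq, ← e, ← e, ← Fin.ext_iff, ← Fin.ext_iff]
        exact hxD k hk
      · obtain ⟨y, hy, rfl⟩ := h
        exact hy
    have hlen : l.length < 5 := (by decide +kernel : ∀ c ∈ classes, c.2.length < 5) _ hx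
    classical
    let σ : Equiv.Perm D := (act g).subtypePerm fun x => (hinv x).symm
    have hσp : σ ^ p = 1 := by
      rw [Equiv.Perm.subtypePerm_pow]
      ext x
      show ((act g ^ p) x : ℕ) = (x : Node)
      rw [← map_pow, hgp, map_one]
      rfl
    have hcard : Fintype.card D < 5 := by
      refine lt_of_le_of_lt ?_ hlen
      rw [← List.toFinset_card_of_nodup ((by decide +kernel : ∀ c ∈ classes, c.2.Nodup) _ hx)]
      refine le_trans (le_of_eq (Finset.card_univ).symm) ?_
      exact Finset.card_le_card_of_injOn (fun x : D => ((x : Node) : ℕ))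
        (fun x _ => List.mem_toFinset.2 (hsub x.1 x.2))
        (fun x _ y _ e => Subtype.ext (Fin.ext e))
    have hσ : σ = 1 := by
      rw [← orderOf_eq_one_iff]
      have h1 : orderOf σ ∣ p := orderOf_dvd_of_pow_eq_one hσp
      refine ((Nat.dvd_prime (Fact.out : p.Prime)).1 h1).resolve_right fun h2 => ?_
      have h3 : p ∣ (Fintype.card D).factorial := by
        rw [← h2, ← Fintype.card_perm]
        exact orderOf_dvd_card
      have := ((Fact.out : p.Prime).dvd_factorial).1 h3
      omega
    exact congrArg Subtype.val (DFunLike.congr_fun hσ ⟨c, fun k _ => Iff.rfl⟩)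
  exact eq_one_of_fix_gens (derFrom_spec outA_ok (P := fun c => act g c = c)
    (fun a b => fix_closed g a b) fun c hc => by
      rcases List.mem_append.1 hc with hc | hc
      · exact hfix c hc
      · exact hcl c hc)

theorem noP_empty {p : ℕ} [Fact p.Prime] (hp5 : 5 ≤ p) : NoP nodes p [] := by
  have hlt : ∀ s ∈ nodes, s < Fi23Table.data.n := fun s hs => by
    have h : ∀ s ∈ nodes, s < 31671 := by simpa [List.all_eq_true, Nat.blt_eq] using nodes_ok
    exact h s hs
  have st := fun (L : Level) (h : L.ok nodes sMask = true) =>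
    L.step hp5 nodes_nodup hlt (mask_ok ▸ h)
  have all := noP_all (p := p) hp5
  have h4 : NoP nodes p level4.R := st level4 level4_ok fun b hb => by
    obtain ⟨i, hi, rfl⟩ := List.getElem_of_mem hb
    rw [← List.getD_eq_getElem _ 0 hi]
    have hi' : i < 8 := by simpa [level4] using hi
    interval_cases i
    exacts [noP_of_closure term0_ok all, noP_of_closure term1_ok all, noP_of_closure term2_ok all,
      noP_of_closure term3_ok all, noP_of_closure term4_ok all, noP_of_closure term5_ok all,
      noP_of_closure term6_ok all, noP_of_closure term7_ok all]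
  have down : ∀ (L L' : Level), L.ok nodes sMask = true → L.reps = [L.b] → L'.R = L.b :: L.R →
      NoP nodes p L'.R → NoP nodes p L.R := by
    intro L L' h hr hR h'
    refine st L h fun b hb => ?_
    rw [hr, List.mem_singleton] at hb
    rw [hb, ← hR]
    exact h'
  have h3 := down level3 level4 level3_ok rfl rfl h4
  have h2 := down level2 level3 level2_ok rfl rfl h3
  have h1 := down level1 level2 level1_ok rfl rfl h2
  exact down level0 level1 level0_ok rfl rfl h1

theorem isSolvable_M : Group.IsSolvable M := by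
  haveI := Fi23Cover.finite
  refine H33.isSolvable_of_two_primes Nat.prime_two Nat.prime_three fun r hr hd => ?_
  by_contra hne
  haveI := Fact.mk hr
  have h5 : 5 ≤ r := by
    have := hr.two_le
    rcases lt_or_ge r 5 with h | h
    · interval_cases r <;> simp_all (config := {decide := true})
    · exact h
  obtain ⟨g, hg⟩ := exists_prime_orderOf_dvd_card' r hd
  have h1 : (g : G23) = 1 := noP_empty h5 g g.2 (by
    rw [← hg, ← SubmonoidClass.coe_pow, pow_orderOf_eq_one]; rfl) (fun a ha => by simp at ha)
  rw [show g = 1 from Subtype.ext h1, orderOf_one] at hg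
  exact hr.ne_one hg.symm

end H92.FiH
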