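/-
A solvable maximal subgroup of Fi23 with ninth derived subgroup not perfect.
-/
import Cfsg.Agent.H92.FiH.Order
import Cfsg.Agent.H92.FiH.Checks3
import Cfsg.Agent.H92.FiH.Checks5

set_option autoImplicit false
set_option maxRecDepth 100000
set_option linter.style.haveILetI false

namespace H92.FiH

open H93 H93.Coset H92.FiT H92.FiM
open scoped commutatorElement

theorem M_ne_top : M ≠ ⊤ := by
  intro h
  have hg : fev [6] ∈ M := h ▸ Subgroup.mem_top _
  have hb : (1 : ℕ) < Fi23Table.data.n := by decide +kernel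
  have e1 : (1 : ℕ) ∈ nodes := by decide +kernel
  have e2 : pathEnd Fi23Table.data.T [6] 1 ∉ nodes := by decide +kernel
  have h1 := ((mem_stab (S := nodes)).1 hg ⟨1, hb⟩).1 e1
  rw [act_word (by decide) ⟨1, hb⟩] at h1
  exact e2 h1

theorem M_coatom : IsCoatom M := by
  refine ⟨M_ne_top, fun K hK => ?_⟩
  let P : Node → Prop := fun a => tau a ∈ K
  have hle := hK.le
  have hclosed : ∀ a b, P a → P b → P (act (tau a) b) := fun a b ha hb => by
    show tau _ ∈ K
    rw [← tau_conj]
    exact mul_mem (mul_mem ha hb) (inv_mem ha)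
  have hinv : ∀ h ∈ M, ∀ a, P (act h a) ↔ P a := fun h hh a => by
    show tau _ ∈ K ↔ tau a ∈ K
    rw [← tau_conj, Subgroup.mul_mem_cancel_right _ (inv_mem (hle hh)),
      Subgroup.mul_mem_cancel_left _ (hle hh)]
  have hlt : ∀ s ∈ nodes, s < Fi23Table.data.n := fun s hs => by
    have h : ∀ s ∈ nodes, s < 31671 := by simpa [List.all_eq_true, Nat.blt_eq] using nodes_ok
    exact h s hs
  -- the transpositions of the set lie in `M`
  have hb : level0.b < Fi23Table.data.n := by decide +kernel
  have hnodes : ∀ c : Node, (c : ℕ) ∈ nodes → P c := by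
    have hok := level0_ok
    simp only [Level.ok, Bool.and_eq_true, List.all_eq_true, walk_eq, Nat.beq_eq, force_eq,
      decide_eq_true_eq] at hok
    obtain ⟨⟨⟨⟨_, hC⟩, hgens⟩, htree⟩, -⟩ := hok
    have hiff := treeOK_spec (P := fun c => (P c ↔ P ⟨level0.b, hb⟩)) (gens := level0.gens)
      (C := level0.C)
      (fun w hw => by
        have := (hgens w hw).1
        simp only [inH, Bool.and_eq_true] at this
        exact this.1)
      (fun w hw a ha => (hinv _ (inH_spec (mask_ok ▸ (hgens w hw).1)) a).trans ha) htree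
      (fun c hc => by
        have h := testBit_maskOf.1 hc
        rw [show level0.reps = [level0.b] from rfl, List.mem_singleton] at h
        rw [show c = ⟨level0.b, hb⟩ from Fin.ext h])
    have hC0 : ∀ c : Node, (c : ℕ) ∈ nodes → (c : ℕ) ∈ level0.C := fun c hc => by
      rw [hC, List.mem_filter]
      exact ⟨hc, rfl⟩
    obtain ⟨hk, hgm⟩ := letter_mem (g := letters.getD 0 0) (by decide +kernel)
    obtain ⟨a, ha, hta⟩ := gen_tau hk
    have hPa : P a := by
      show tau a ∈ K
      rw [hta]
      exact hle hgm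
    have hbase : P ⟨level0.b, hb⟩ := (hiff a (hC0 a (by rw [ha]; decide +kernel))).1 hPa
    exact fun c hc => (hiff c (hC0 c hc)).2 hbase
  -- every other node leads to one of two roots
  have hroot : ∀ d, ∀ x : Node, tv x / 32 = d → (x : ℕ) ∉ nodes →
      ∃ r : Node, (r : ℕ) = rootOf (tv x % 2) ∧ (P x ↔ P r) := by
    intro d
    induction d using Nat.strong_induction_on with
    | h d ih =>
      intro x hd hx
      have h := allRange_spec treeNode_ok (x : ℕ) (Nat.zero_le _) (x.2.trans_le (le_of_eq (Nat.zero_add 31671).symm))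
      have hm : Nat.testBit sMask x = false := Bool.eq_false_iff.2 fun hm =>
        hx (testBit_maskOf.1 (mask_ok ▸ hm))
      simp only [treeNode, hm, Bool.false_or, force_eq] at h
      cases hz : Nat.beq (tv x / 32) 0 with
      | true =>
        rw [hz, cond_true, Nat.beq_eq] at h
        exact ⟨x, h, Iff.rfl⟩
      | false =>
        rw [hz, cond_false] at h
        simp only [Bool.and_eq_true, Nat.blt_eq, walk_eq, Nat.beq_eq, Bool.not_eq_true'] at h
        obtain ⟨hi, ⟨⟨hq, hqs⟩, hlt', hpar⟩⟩ := h
        have hw : treeWords.getD (tv x / 2 % 16) [] ∈ treeWords := by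
          rw [List.getD_eq_getElem _ _ hi]; exact List.getElem_mem hi
        have h2 := List.all_eq_true.1 tree_words _ hw
        simp only [List.any_eq_true, decide_eq_true_eq] at h2
        obtain ⟨v, hv, hvw⟩ := h2
        obtain ⟨hl, hm'⟩ := mem_hWords hv
        rw [hvw] at hl hm'
        set y : Node := act (fev (treeWords.getD (tv x / 2 % 16) [])) x with hy
        have hval : (y : ℕ) = pathEnd Fi23Table.data.T (treeWords.getD (tv x / 2 % 16) []) x :=
          act_word hl x
        rw [← hval] at hqs hlt' hpar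
        obtain ⟨r, hr, hxr⟩ := ih _ (hd ▸ hlt') y rfl (fun hmem => by
          have := (testBit_maskOf (l := nodes)).2 hmem
          rw [← mask_ok, hqs] at this
          exact absurd this (by decide))
        exact ⟨r, hr.trans (by rw [hpar]), (hinv _ hm' x).symm.trans hxr⟩
  -- some element moves the set
  obtain ⟨k, hk, hkM⟩ := SetLike.exists_of_lt hK
  obtain ⟨a, ha, hka⟩ : ∃ a : Node, (a : ℕ) ∈ nodes ∧ (act k a : ℕ) ∉ nodes := by
    by_contra hc
    push Not at hc
    exact hkM (mem_stab_of_mapsTo hc)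
  have hPk : P (act k a) := by
    show tau _ ∈ K
    rw [← tau_conj]
    exact mul_mem (mul_mem hk (hnodes a ha)) (inv_mem hk)
  obtain ⟨r, hr, hkr⟩ := hroot _ (act k a) rfl hka
  have hPr := hkr.1 hPk
  have hsame : ∀ x : Node, (x : ℕ) ∉ nodes → rootOf (tv x % 2) = (r : ℕ) → P x := by
    intro x hx he
    obtain ⟨r', hr', hxr⟩ := hroot _ x rfl hx
    rw [show r' = r from Fin.ext (hr'.trans he)] at hxr
    exact hxr.2 hPr
  have hgens : ∀ c : Node, (c : ℕ) ∈ genPts → P c := by
    rcases Nat.mod_two_eq_zero_or_one (tv (act k a)) with hm | hm <;> rw [hm] at hr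
    · refine derFrom_spec outA_ok hclosed fun c hc => ?_
      rcases List.mem_append.1 hc with hc | hc
      · exact hnodes c hc
      · exact hsame c ((by decide +kernel : ∀ c ∈ classes.map Prod.fst, c ∉ nodes) _ hc)
          (((by decide +kernel : ∀ c ∈ classes.map Prod.fst, rootOf (tv c % 2) = 2) _ hc).trans
            hr.symm)
    · refine derFrom_spec outB_ok hclosed fun c hc => ?_
      rcases List.mem_append.1 hc with hc | hc
      · exact hnodes c hc
      · rw [List.mem_singleton] at hc
        rw [show c = r from Fin.ext (hc.trans hr.symm)]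
        exact hPr
  rw [eq_top_iff, ← show Subgroup.closure (Fi23Order.gen '' {k | k < 10}) = ⊤ from
    Fi23Table.fit.model.generates, Subgroup.closure_le]
  rintro _ ⟨g, hg, rfl⟩
  obtain ⟨c, hc, htc⟩ := gen_tau hg
  rw [SetLike.mem_coe, ← htc]
  refine hgens c ?_
  rw [hc, List.getD_eq_getElem _ _ (by simpa [genPts] using hg)]
  exact List.getElem_mem _

/-- The derived series inside the whole group. -/
noncomputable def DS (k : ℕ) : Subgroup G23 := (derivedSeries M k).map M.subtype

theorem DS_zero : DS 0 = M := by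
  rw [DS, derivedSeries_zero, ← MonoidHom.range_eq_map, Subgroup.range_subtype]

theorem commutator_mem {k : ℕ} {a b : G23} (ha : a ∈ DS k) (hb : b ∈ DS k) : ⁅a, b⁆ ∈ DS (k + 1) := by
  obtain ⟨a, ha, rfl⟩ := ha
  obtain ⟨b, hb, rfl⟩ := hb
  rw [← map_commutatorElement]
  refine Subgroup.mem_map_of_mem _ ?_
  rw [derivedSeries_succ]
  exact Subgroup.commutator_mem_commutator ha hb

theorem conj_mem {k : ℕ} {h x : G23} (hh : h ∈ M) (hx : x ∈ DS k) : h * x * h⁻¹ ∈ DS k := by
  obtain ⟨x, hx, rfl⟩ := hx
  exact ⟨⟨h, hh⟩ * x * ⟨h, hh⟩⁻¹, (derivedSeries_normal M k).conj_mem x hx ⟨h, hh⟩, rfl⟩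

theorem derivation : ∀ k, k < derivedNodes.length →
    lettersOK (dnode k).2.2.2.2 = true ∧ fev (dnode k).2.2.2.2 ∈ DS (dnode k).1 := by
  intro k
  induction k using Nat.strong_induction_on with
  | h k ih =>
    intro hk
    have hn : derivedNodes.length = 135 := by decide +kernel
    have h := allRange_spec derived_ok k (Nat.zero_le _) (by omega)
    simp only [derivedAt] at h
    generalize dnode k = nd at h
    obtain ⟨l, c, i, j, w⟩ := nd
    simp only [nodeOK, Bool.and_eq_true] at h
    obtain ⟨hwl, h⟩ := h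
    refine ⟨hwl, ?_⟩
    dsimp only
    split at h
    · simp only [Bool.and_eq_true, Nat.beq_eq, Nat.blt_eq, decide_eq_true_eq] at h
      obtain ⟨⟨rfl, hi⟩, rfl⟩ := h
      rw [DS_zero, List.getD_eq_getElem _ _ hi]
      exact (mem_hWords (List.getElem_mem hi)).2
    all_goals simp only [Bool.and_eq_true, Nat.beq_eq, Nat.blt_eq] at h
    · obtain ⟨⟨⟨⟨hi, hj⟩, hli⟩, hlj⟩, he⟩ := h
      have h1 := ih _ (show k - 1 - i < k by omega) (by omega)
      have h2 := ih _ (show k - 1 - j < k by omega) (by omega)
      rw [eqv_spec he, fev_append]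
      exact mul_mem (hlj ▸ h2.2) (hli ▸ h1.2)
    · obtain ⟨⟨⟨⟨hi, hj⟩, hli⟩, hlj⟩, he⟩ := h
      have h1 := ih _ (show k - 1 - i < k by omega) (by omega)
      have h2 := ih _ (show k - 1 - j < k by omega) (by omega)
      rw [eqv_spec he, fev_append, fev_append, fev_rev h1.1, ← mul_assoc]
      exact conj_mem (by rw [← DS_zero]; exact hli ▸ h1.2) (hlj ▸ h2.2)
    · obtain ⟨⟨⟨⟨hi, hj⟩, hli⟩, hl⟩, he⟩ := h
      have h1 := ih _ (show k - 1 - i < k by omega) (by omega)
      have h2 := ih _ (show k - 1 - j < k by omega) (by omega)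
      rw [eqv_spec he, fev_append, fev_append, fev_append, fev_rev h1.1, fev_rev h2.1, hl]
      have := commutator_mem h1.2 (hli ▸ h2.2)
      rwa [commutatorElement_def, mul_assoc, mul_assoc] at this

theorem DS_nine_ne_bot : derivedSeries M 9 ≠ ⊥ := by
  intro hbot
  obtain ⟨hl, hm⟩ := derivation 134 (by decide +kernel)
  rw [derived_last.1, DS, hbot, Subgroup.map_bot, Subgroup.mem_bot] at hm
  have h := act_word hl ⟨55, by decide +kernel⟩
  rw [hm, map_one] at h
  have h55 : (55 : ℕ) = pathEnd Fi23Table.data.T (dnode 134).2.2.2.2 55 := h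
  have := derived_last.2
  rw [← h55] at this
  exact absurd this (by decide)

theorem derived_ten_ne : derivedSeries M 10 ≠ derivedSeries M 9 := by
  intro h
  obtain ⟨m, hm⟩ := isSolvable_M.solvable
  have hs : ∀ j, derivedSeries M (9 + j) = derivedSeries M 9 := by
    intro j
    induction j with
    | zero => rfl
    | succ j ih => rw [← Nat.add_assoc, derivedSeries_succ, ih, ← derivedSeries_succ, h]
  refine DS_nine_ne_bot ((hs m).symm.trans (eq_bot_iff.2 (le_trans ?_ hm.le)))
  exact derivedSeries_antitone _ (by omega)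

end H92.FiH
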