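/-
The stabilizer of a set of transpositions of Fi23: closure, orbits and elements of prime order.
-/
import Cfsg.Agent.H92.FiM.Lifts

set_option autoImplicit false
set_option maxRecDepth 100000
set_option linter.style.haveILetI false

namespace H92.FiH

open H93 H93.Coset H92.FiT H92.FiM

abbrev Node : Type := Fin Fi23Table.data.n

/-- The transposition at a node. -/
noncomputable def tau (a : Node) : G23 :=
  (exists_act a).choose * Fi23Cover.z * (exists_act a).choose⁻¹

theorem tau_eq {g : G23} {a : Node} (h : act g o = a) : tau a = g * Fi23Cover.z * g⁻¹ := by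
  have hr : act (exists_act a).choose o = a := (exists_act a).choose_spec
  rw [tau]
  generalize (exists_act a).choose = r at hr ⊢
  have hH : g⁻¹ * r ∈ Fi23Cover.H := by
    rw [← act_o_eq_iff, map_mul, Equiv.Perm.mul_apply, hr, map_inv, Equiv.Perm.inv_eq_iff_eq, h]
  calc r * Fi23Cover.z * r⁻¹ = g * (g⁻¹ * r * Fi23Cover.z) * r⁻¹ := by group
    _ = g * (Fi23Cover.z * (g⁻¹ * r)) * r⁻¹ := by rw [Fi23Cover.z_central _ hH]
    _ = g * Fi23Cover.z * g⁻¹ := by group

theorem tau_conj (g : G23) (a : Node) : g * tau a * g⁻¹ = tau (act g a) := by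
  obtain ⟨x, hx⟩ := exists_act a
  rw [tau_eq hx, tau_eq (g := g * x) (a := act g a) (by rw [map_mul, Equiv.Perm.mul_apply, hx])]
  group

theorem tau_word {u : List ℕ} (hu : lettersOK u = true) {a : Node}
    (h : pathEnd Fi23Table.data.T u 0 = a) : tau a = fev (cword u) := by
  have ha : act (fev u) o = a :=
    Fin.ext ((Fi23Cover.model.act_ev u (lettersOK_spec hu) o).trans h)
  rw [tau_eq ha]
  exact (Fi23Cover.conj_word (lettersOK_spec hu)).symm

theorem act_word {w : List ℕ} (hw : lettersOK w = true) (a : Node) :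
    (act (fev w) a : ℕ) = pathEnd Fi23Table.data.T w a :=
  Fi23Cover.model.act_ev w (lettersOK_spec hw) a

theorem act_tau (g : G23) (a c : Node) :
    act g (act (tau a) c) = act (tau (act g a)) (act g c) := by
  rw [← tau_conj, ← Equiv.Perm.mul_apply, ← Equiv.Perm.mul_apply, ← map_mul, ← map_mul,
    inv_mul_cancel_right]

/-- The stabilizer of a set of nodes. -/
noncomputable def stab (S : List ℕ) : Subgroup G23 where
  carrier := {g | ∀ a : Node, (a : ℕ) ∈ S ↔ (act g a : ℕ) ∈ S}
  one_mem' := fun a => by simp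
  mul_mem' := fun {x y} hx hy a => by
    rw [map_mul, Equiv.Perm.mul_apply]
    exact (hy a).trans (hx _)
  inv_mem' := fun {x} hx a => by
    have h := hx (act x⁻¹ a)
    rw [← Equiv.Perm.mul_apply, ← map_mul, mul_inv_cancel, map_one, Equiv.Perm.one_apply] at h
    exact h.symm

theorem mem_stab {S : List ℕ} {g : G23} :
    g ∈ stab S ↔ ∀ a : Node, (a : ℕ) ∈ S ↔ (act g a : ℕ) ∈ S := Iff.rfl

theorem mem_stab_of_mapsTo {S : List ℕ} {g : G23}
    (h : ∀ a : Node, (a : ℕ) ∈ S → (act g a : ℕ) ∈ S) : g ∈ stab S := by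
  intro a
  refine ⟨h a, fun ha => ?_⟩
  let A : Set Node := {c | (c : ℕ) ∈ S}
  have hm : (act g : Node → Node) '' A = A := by
    refine Set.eq_of_subset_of_ncard_le ?_ (le_of_eq ?_) A.toFinite
    · rintro _ ⟨c, hc, rfl⟩
      exact h c hc
    · exact (Set.ncard_image_of_injective A (act g).injective).symm
  have ha' : act g a ∈ A := ha
  rw [← hm] at ha'
  obtain ⟨c, hc, hce⟩ := ha'
  rw [← (act g).injective hce]
  exact hc

/-! ### derivations -/

/-- A bit set. -/
def maskOf : List ℕ → ℕ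
  | [] => 0
  | a :: l => maskOf l ||| Nat.shiftLeft 1 a

theorem testBit_maskOf : ∀ {l : List ℕ} {i : ℕ}, Nat.testBit (maskOf l) i = true ↔ i ∈ l
  | [], i => by simp [maskOf]
  | a :: l, i => by
      show Nat.testBit (maskOf l ||| 1 <<< a) i = true ↔ _
      rw [Nat.testBit_or, Bool.or_eq_true, testBit_maskOf, Nat.one_shiftLeft, Nat.testBit_two_pow,
        decide_eq_true_eq, List.mem_cons, or_comm, eq_comm]

/-- The set together with all nodes derived by conjugation covers the goal. -/
noncomputable def derOK (goal : List ℕ) (l : List (List ℕ × ℕ × ℕ × ℕ)) (seen : ℕ) : Bool :=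
  List.rec (motive := fun _ => ℕ → Bool) (fun seen => goal.all (Nat.testBit seen))
    (fun s _ ih seen => lettersOK s.1 && walk Fi23Table.data.T s.1 0 (Nat.beq s.2.1) &&
      Nat.testBit seen s.2.1 && Nat.testBit seen s.2.2.1 && Nat.blt s.2.1 31671 &&
      Nat.blt s.2.2.1 31671 &&
      walk Fi23Table.data.T (cword s.1) s.2.2.1 (Nat.beq s.2.2.2) &&
      force (Nat.lor seen (Nat.shiftLeft 1 s.2.2.2)) ih) l seen

theorem derOK_spec {goal : List ℕ} {P : Node → Prop}
    (hP : ∀ a b, P a → P b → P (act (tau a) b)) : ∀ {l : List (List ℕ × ℕ × ℕ × ℕ)} {seen : ℕ},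
      derOK goal l seen = true → (∀ c : Node, Nat.testBit seen c = true → P c) →
        ∀ c : Node, (c : ℕ) ∈ goal → P c
  | [], seen, h, hs, c, hc => hs c ((List.all_eq_true.1 h) _ hc)
  | s :: l, seen, h, hs, c, hc => by
      change (_ && _ && _ && _ && _ && _ && _ && force _ (derOK goal l)) = true at h
      simp only [Bool.and_eq_true, walk_eq, Nat.beq_eq, Nat.blt_eq, force_eq] at h
      obtain ⟨⟨⟨⟨⟨⟨⟨hu, ha⟩, h1⟩, h2⟩, ha'⟩, hb'⟩, hd⟩, hr⟩ := h
      have hPd : P (act (tau ⟨s.2.1, ha'⟩) ⟨s.2.2.1, hb'⟩) := hP _ _ (hs _ h1) (hs _ h2)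
      have hval : (act (tau ⟨s.2.1, ha'⟩) ⟨s.2.2.1, hb'⟩ : ℕ) = s.2.2.2 := by
        rw [tau_word hu (a := ⟨s.2.1, ha'⟩) ha.symm,
          Fi23Cover.model.act_ev _ (cword_letters hu), hd]
      refine derOK_spec hP (l := l) hr (fun e he => ?_) c hc
      change Nat.testBit (seen ||| 1 <<< s.2.2.2) e = true at he
      rw [Nat.testBit_or, Bool.or_eq_true, Nat.one_shiftLeft, Nat.testBit_two_pow,
        decide_eq_true_eq] at he
      rcases he with he | he
      · exact hs e he
      · rwa [show e = _ from Fin.ext (he.symm.trans hval.symm)]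

/-- Derivation from a list. -/
noncomputable def derFrom (R goal : List ℕ) (l : List (List ℕ × ℕ × ℕ × ℕ)) : Bool :=
  force (maskOf R) (derOK goal l)

theorem derFrom_spec {R goal : List ℕ} {l : List (List ℕ × ℕ × ℕ × ℕ)} (h : derFrom R goal l = true)
    {P : Node → Prop} (hP : ∀ a b, P a → P b → P (act (tau a) b))
    (hR : ∀ c : Node, (c : ℕ) ∈ R → P c) : ∀ c : Node, (c : ℕ) ∈ goal → P c := by
  rw [derFrom, force_eq] at h
  exact derOK_spec hP h fun c hc => hR c (testBit_maskOf.1 hc)

/-! ### orbit trees -/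

/-- Every member of `C` is reached from the starting set. -/
noncomputable def treeOK (gens : List (List ℕ)) (C : List ℕ) (l : List (ℕ × ℕ × ℕ)) (seen : ℕ) : Bool :=
  List.rec (motive := fun _ => ℕ → Bool) (fun seen => C.all (Nat.testBit seen))
    (fun s _ ih seen => Nat.blt s.2.2 gens.length && Nat.testBit seen s.2.1 && Nat.blt s.2.1 31671 &&
      walk Fi23Table.data.T (gens.getD s.2.2 []) s.2.1 (Nat.beq s.1) &&
      force (Nat.lor seen (Nat.shiftLeft 1 s.1)) ih) l seen

theorem treeOK_spec {gens : List (List ℕ)} {C : List ℕ} {P : Node → Prop}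
    (hl : ∀ w ∈ gens, lettersOK w = true) (hP : ∀ w ∈ gens, ∀ a, P a → P (act (fev w) a)) :
    ∀ {l : List (ℕ × ℕ × ℕ)} {seen : ℕ},
      treeOK gens C l seen = true → (∀ c : Node, Nat.testBit seen c = true → P c) →
        ∀ c : Node, (c : ℕ) ∈ C → P c
  | [], seen, h, hs, c, hc => hs c ((List.all_eq_true.1 h) _ hc)
  | s :: l, seen, h, hs, c, hc => by
      change (_ && _ && _ && _ && force _ (treeOK gens C l)) = true at h
      simp only [Bool.and_eq_true, walk_eq, Nat.beq_eq, Nat.blt_eq, force_eq] at h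
      obtain ⟨⟨⟨⟨hi, h1⟩, ha⟩, hd⟩, hr⟩ := h
      have hw : gens.getD s.2.2 [] ∈ gens := by
        rw [List.getD_eq_getElem _ _ hi]
        exact List.getElem_mem hi
      have hPd : P (act (fev (gens.getD s.2.2 [])) ⟨s.2.1, ha⟩) := hP _ hw _ (hs _ h1)
      have hval : (act (fev (gens.getD s.2.2 [])) ⟨s.2.1, ha⟩ : ℕ) = s.1 := by
        rw [act_word (hl _ hw), hd]
      refine treeOK_spec hl hP (l := l) hr (fun e he => ?_) c hc
      change Nat.testBit (seen ||| 1 <<< s.1) e = true at he
      rw [Nat.testBit_or, Bool.or_eq_true, Nat.one_shiftLeft, Nat.testBit_two_pow,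
        decide_eq_true_eq] at he
      rcases he with he | he
      · exact hs e he
      · rwa [show e = _ from Fin.ext (he.symm.trans hval.symm)]

/-! ### elements in the stabilizer -/

/-- The word lies in the stabilizer of the set with bit set `m`. -/
noncomputable def inH (S : List ℕ) (m : ℕ) (w : List ℕ) : Bool :=
  lettersOK w && S.all fun s => walk Fi23Table.data.T w s (Nat.testBit m)

theorem inH_spec {S : List ℕ} {w : List ℕ} (h : inH S (maskOf S) w = true) : fev w ∈ stab S := by
  simp only [inH, Bool.and_eq_true, List.all_eq_true, walk_eq] at h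
  refine mem_stab_of_mapsTo fun a ha => ?_
  rw [act_word h.1]
  exact testBit_maskOf.1 (h.2 _ ha)

/-! ### levels -/

/-- `a` and `b` have the same relations to the references. -/
noncomputable def sameSig (refs : List (List ℕ × ℕ)) (b x : ℕ) : Bool :=
  refs.all fun s => (Nat.beq s.2 x == Nat.beq s.2 b) &&
    walk Fi23Table.data.T (cword s.1) x (fun q => walk Fi23Table.data.T (cword s.1) b fun q' =>
      Nat.beq q x == Nat.beq q' b)

/-- The data of one level. -/
structure Level where
  R : List ℕ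
  refs : List (List ℕ × ℕ)
  der : List (List ℕ × ℕ × ℕ × ℕ)
  b : ℕ
  C : List ℕ
  reps : List ℕ
  gens : List (List ℕ)
  tree : List (ℕ × ℕ × ℕ)

/-- The check of one level. -/
noncomputable def Level.ok (L : Level) (S : List ℕ) (m : ℕ) : Bool :=
  L.refs.all (fun s => lettersOK s.1 && walk Fi23Table.data.T s.1 0 (Nat.beq s.2)) &&
  derFrom L.R (L.refs.map Prod.snd) L.der &&
  decide (L.C = S.filter (sameSig L.refs L.b)) &&
  (L.gens.all fun w => inH S m w && L.R.all fun r => walk Fi23Table.data.T w r (Nat.beq r)) &&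
  force (maskOf L.reps) (treeOK L.gens L.C L.tree) &&
  Nat.beq (248832 % L.C.length) 0

/-- Elements of order dividing `p` fixing `R` are trivial. -/
def NoP (S : List ℕ) (p : ℕ) (R : List ℕ) : Prop :=
  ∀ g ∈ stab S, g ^ p = 1 → (∀ a : Node, (a : ℕ) ∈ R → act g a = a) → g = 1

theorem fix_closed (g : G23) (a b : Node) (ha : act g a = a) (hb : act g b = b) :
    act g (act (tau a) b) = act (tau a) b := by
  rw [act_tau, ha, hb]

theorem smooth_not_dvd {p k : ℕ} (hp : p.Prime) (hp5 : 5 ≤ p) (hk : k ∣ 248832) : ¬ p ∣ k := by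
  intro h
  have h' : p ∣ 2 ^ 10 * 3 ^ 5 := by simpa using h.trans hk
  rcases (Nat.Prime.dvd_mul hp).1 h' with h1 | h1
  · have := Nat.le_of_dvd (by norm_num) (hp.dvd_of_dvd_pow h1); omega
  · have := Nat.le_of_dvd (by norm_num) (hp.dvd_of_dvd_pow h1); omega

theorem Level.step {S : List ℕ} {p : ℕ} [Fact p.Prime] (hp5 : 5 ≤ p) (hS : S.Nodup)
    (hlt : ∀ s ∈ S, s < Fi23Table.data.n) (L : Level) (h : L.ok S (maskOf S) = true)
    (ih : ∀ b' ∈ L.reps, NoP S p (b' :: L.R)) : NoP S p L.R := by
  simp only [Level.ok, Bool.and_eq_true, List.all_eq_true, walk_eq, Nat.beq_eq, force_eq,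
    decide_eq_true_eq] at h
  obtain ⟨⟨⟨⟨⟨hrefs, hder⟩, hC⟩, hgens⟩, htree⟩, hsm⟩ := h
  intro g hg hgp hfix
  have hfr : ∀ c : Node, (c : ℕ) ∈ L.refs.map Prod.snd → act g c = c :=
    derFrom_spec hder (P := fun c => act g c = c) (fun a b => fix_closed g a b) hfix
  let A : Set Node := {c | (c : ℕ) ∈ L.C}
  have hinv : ∀ x : Node, x ∈ A → act g x ∈ A := by
    intro x hx
    change (x : ℕ) ∈ L.C at hx
    change (act g x : ℕ) ∈ L.C
    rw [hC, List.mem_filter] at hx ⊢
    refine ⟨(hg x).1 hx.1, ?_⟩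
    have hsig := hx.2
    simp only [sameSig, List.all_eq_true, Bool.and_eq_true, walk_eq, beq_iff_eq] at hsig ⊢
    intro s hs
    obtain ⟨h1, h2⟩ := hsig s hs
    have hu := hrefs s hs
    have hr : s.2 < Fi23Table.data.n := by
      rw [hu.2]
      exact (Fi23Cover.model.act_ev s.1 (lettersOK_spec hu.1) o) ▸ (act (fev s.1) o).2
    let r : Node := ⟨s.2, hr⟩
    have hgr : act g r = r := hfr r (List.mem_map_of_mem hs)
    have hiff : ∀ y : Node, (pathEnd Fi23Table.data.T (cword s.1) y = y) ↔ act (tau r) y = y := by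
      intro y
      rw [tau_word hu.1 (a := r) hu.2.symm, Fin.ext_iff,
        Fi23Cover.model.act_ev _ (cword_letters hu.1)]
    refine ⟨?_, ?_⟩
    · rw [← h1, Bool.eq_iff_iff, Nat.beq_eq, Nat.beq_eq]
      show (r : ℕ) = (act g x : ℕ) ↔ (r : ℕ) = (x : ℕ)
      rw [← Fin.ext_iff, ← Fin.ext_iff]
      exact ⟨fun e => (act g).injective (hgr.trans e), fun e => by rw [← e, hgr]⟩
    · rw [← h2, Bool.eq_iff_iff, Nat.beq_eq, Nat.beq_eq, hiff, hiff]
      constructor
      · intro e
        refine (act g).injective ?_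
        rw [act_tau, hgr, e]
      · intro e
        have := congrArg (act g) e
        rwa [act_tau, hgr] at this
  let σ : Equiv.Perm A := (act g).subtypePerm fun x => ⟨fun hx => by
      have hrev : ∀ k : ℕ, (act g ^ k) (act g x) ∈ A := fun k => by
        induction k with
        | zero => simpa using hx
        | succ k ihk =>
          rw [pow_succ', Equiv.Perm.mul_apply]
          exact hinv _ ihk
      have h1 := hrev (p - 1)
      rwa [← Equiv.Perm.mul_apply, ← pow_succ, Nat.sub_add_cancel (Fact.out : p.Prime).pos,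
        ← map_pow, hgp, map_one, Equiv.Perm.one_apply] at h1, hinv x⟩
  have hσ : σ ^ p ^ 1 = 1 := by
    rw [pow_one, Equiv.Perm.subtypePerm_pow]
    ext x
    show ((act g ^ p) x : ℕ) = (x : Node)
    rw [← map_pow, hgp, map_one]
    rfl
  have hcard : Nat.card A = L.C.length := by
    have hnd : L.C.Nodup := hC ▸ hS.filter _
    have hltC : ∀ c ∈ L.C, c < Fi23Table.data.n := fun c hc => by
      rw [hC, List.mem_filter] at hc
      exact hlt c hc.1
    rw [← List.toFinset_card_of_nodup hnd, ← Set.ncard_coe_finset, ← Nat.card_coe_set_eq]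
    refine Nat.card_congr
      { toFun := fun x => ⟨(x.1 : ℕ), List.mem_toFinset.2 x.2⟩
        invFun := fun x => ⟨⟨x.1, hltC _ (List.mem_toFinset.1 x.2)⟩, List.mem_toFinset.1 x.2⟩
        left_inv := fun x => rfl
        right_inv := fun x => rfl }
  classical
  obtain ⟨⟨x, hx⟩, hfx⟩ := Equiv.Perm.exists_fixed_point_of_prime (p := p) (n := 1) (α := A) (by
    rw [← Nat.card_eq_fintype_card, hcard]
    exact smooth_not_dvd Fact.out hp5 (Nat.dvd_of_mod_eq_zero hsm)) hσ
  have hgx : act g x = x := congrArg Subtype.val hfx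
  have hreach := treeOK_spec (P := fun c => ∃ h ∈ stab S, (∀ a : Node, (a : ℕ) ∈ L.R → act h a = a) ∧
      ∃ b : Node, (b : ℕ) ∈ L.reps ∧ act h b = c) (gens := L.gens) (C := L.C)
    (fun w hw => by
      have := (hgens w hw).1
      simp only [inH, Bool.and_eq_true] at this
      exact this.1)
    (fun w hw a ha => by
      obtain ⟨h, hh, hhR, b, hb, hba⟩ := ha
      have hw' := inH_spec (hgens w hw).1
      refine ⟨fev w * h, mul_mem hw' hh, fun c hc => ?_, b, hb, by rw [map_mul, Equiv.Perm.mul_apply, hba]⟩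
      rw [map_mul, Equiv.Perm.mul_apply, hhR c hc]
      have hl : lettersOK w = true := by
        have := (hgens w hw).1
        simp only [inH, Bool.and_eq_true] at this
        exact this.1
      exact Fin.ext ((act_word hl c).trans ((hgens w hw).2 _ hc).symm))
    htree (fun c hc => ⟨1, one_mem _, fun a _ => by simp, c, testBit_maskOf.1 hc, by simp⟩) x hx
  obtain ⟨k, hk, hkR, b, hb, hbx⟩ := hreach
  have h1 : k⁻¹ * g * k = 1 := by
    refine ih b hb _ (mul_mem (mul_mem (inv_mem hk) hg) hk) ?_ ?_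
    · have e : (k⁻¹ * g * k⁻¹⁻¹) ^ p = k⁻¹ * g ^ p * k⁻¹⁻¹ := conj_pow
      rw [inv_inv, hgp] at e
      rw [e]
      group
    · intro a ha
      rw [map_mul, map_mul, map_inv, Equiv.Perm.mul_apply, Equiv.Perm.mul_apply,
        Equiv.Perm.inv_eq_iff_eq]
      rcases List.mem_cons.1 ha with ha | ha
      · obtain rfl : a = b := Fin.ext ha
        rw [hbx, hgx]
      · rw [hkR a ha, hfix a ha]
  calc g = k * (k⁻¹ * g * k) * k⁻¹ := by group
    _ = 1 := by rw [h1]; group

theorem noP_of_closure {S : List ℕ} {p : ℕ} {R : List ℕ} {l : List (List ℕ × ℕ × ℕ × ℕ)}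
    (h : derFrom R S l = true) (ih : NoP S p S) : NoP S p R := fun g hg hgp hfix =>
  ih g hg hgp (derFrom_spec h (P := fun c => act g c = c) (fun a b => fix_closed g a b) hfix)

end H92.FiH
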